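import Cfsg.Agent.Lib.Goldschmidt.Phi.Signalizer

/-!
# The two general tools for the kills

* `le_sup_normalizer` : Frattini argument for `A`, from `A` being strongly closed in every `2`-group above it;
* `false_of_balanced` : balanced cores and no components is impossible in rank at least three.
-/

set_option autoImplicit false
set_option linter.style.haveILetI false

namespace CfsgLib.Gold

open Subgroup

universe u

variable {G : Type u} [Group G] [Finite G] {S : Sylow 2 G} {A : Subgroup G}

namespace Setting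

/-- An element taking `A` into a `2`-group above it normalizes `A`. -/
theorem mem_normalizer_of_conj_le (h : Setting S A) {P : Subgroup G} (hP : IsPGroup 2 P) (hA : A ≤ P) {x : G}
    (hx : ∀ a ∈ A, x * a * x⁻¹ ∈ P) : x ∈ normalizer (A : Set G) := by
  haveI := Fact.mk Nat.prime_two
  obtain ⟨g, hg⟩ := CfsgLib.Invol.exists_conj_le_sylow hP S
  have h1 : g ∈ normalizer (A : Set G) :=
    mem_normalizer_fintype fun a ha => h.closed.2 a ha g (hg a (hA ha))
  have h2 : g * x ∈ normalizer (A : Set G) := mem_normalizer_fintype fun a ha => by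
    have h3 := hg _ (hx a ha)
    rw [show g * (x * a * x⁻¹) * g⁻¹ = g * x * a * (g * x)⁻¹ by group] at h3
    exact h.closed.2 a ha (g * x) h3
  simpa using mul_mem (inv_mem h1) h2

/-- The Frattini argument. -/
theorem le_sup_normalizer (h : Setting S A) {C M : Subgroup G} (hMC : M ≤ C)
    (hn : C ≤ normalizer (M : Set G)) (hAM : A ≤ M) : C ≤ M ⊔ (normalizer (A : Set G) ⊓ C) := by
  haveI := Fact.mk Nat.prime_two
  intro x hx
  obtain ⟨Q, hQ⟩ := ((S.2.to_le h.le_sylow).comap_of_injective M.subtype M.subtype_injective :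
    IsPGroup 2 (A.subgroupOf M)).exists_le_sylow
  have hxA : IsPGroup 2 ((A.map (MulAut.conj x).toMonoidHom).subgroupOf M) :=
    ((S.2.to_le h.le_sylow).map _).comap_of_injective M.subtype M.subtype_injective
  obtain ⟨m, hm⟩ := CfsgLib.Invol.exists_conj_le_sylow hxA Q
  have h1 : (m : G) * x ∈ normalizer (A : Set G) := by
    refine h.mem_normalizer_of_conj_le (P := (Q : Subgroup M).map M.subtype) (Q.2.map _)
      (fun a ha => ⟨⟨a, hAM ha⟩, hQ (mem_subgroupOf.2 ha), rfl⟩) fun a ha => ?_
    refine ⟨_, hm ⟨x * a * x⁻¹, (mem_normalizer_iff.1 (hn hx) a).1 (hAM ha)⟩ (mem_subgroupOf.2 ⟨a, ha, rfl⟩),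
      ?_⟩
    show (m : G) * (x * a * x⁻¹) * (m : G)⁻¹ = _
    group
  have h2 : x = (m : G)⁻¹ * ((m : G) * x) := by group
  rw [h2]
  exact mul_mem_sup (inv_mem m.2) ⟨h1, mul_mem (hMC m.2) hx⟩

/-- The kill without components. -/
theorem false_of_balanced (h : Setting S A) (h8 : 8 ≤ Nat.card A) (hb : Phi.Balanced A)
    (hcov : ∀ a ∈ A, a ≠ 1 →
      centralizer ({a} : Set G) ≤ Cfsg.centralizerPPrimeCore 2 a ⊔ normalizer (A : Set G)) : False :=
  h.false_of_cover (Phi.W_odd h h8 hb) Phi.normalizer_le_normalizer_W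
    (fun _ ha ha1 => Phi.core_le_W ha ha1) hcov

end Setting

end CfsgLib.Gold
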