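import Cfsg.Agent.Lib.Goldschmidt.SFourFree
import Cfsg.Agent.Lib.PGroup.ZJFailure

/-!
# Groups in which no element of a Sylow `3`-subgroup is inverted in `N(Z(J(T)))`

By fusion control or the failure of it, no element of order three is inverted, so `S₃` is not involved.
Given Goldschmidt's theorem the composition factors are then Suzuki groups or `PSL₂(3^odd)`.
-/

set_option autoImplicit false
set_option linter.style.haveILetI false

namespace CfsgLib.Gold

open Subgroup
open CfsgLib.PGroup.ZJFailure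
open CfsgLib.Fusion (conjBy conjBy_le_iff conjBy_eq_iff conjBy_eq_of_le conj_mem_conjBy mem_conjBy)

universe u

variable {G : Type u} [Group G] [Finite G]

theorem exists_inverting_three (H C : Subgroup G) (hC : Nat.card C = 3)
    (hi : (H ⊓ centralizer (C : Set G)).relIndex (H ⊓ normalizer (C : Set G)) = 2) :
    ∃ h ∈ H, ∀ c ∈ C, h * c * h⁻¹ = c⁻¹ := by
  haveI := Fact.mk Nat.prime_three
  haveI : IsCyclic C := isCyclic_of_prime_card hC
  letI : CommGroup C := IsCyclic.commGroup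
  set Y := H ⊓ normalizer (C : Set G) with hY
  let φ : Y →* MulAut C := C.normalizerMonoidHom.comp (Subgroup.inclusion (inf_le_right : Y ≤ _))
  have hker : φ.ker = (H ⊓ centralizer (C : Set G)).subgroupOf Y := by
    rw [← MonoidHom.comap_ker, Subgroup.normalizerMonoidHom_ker]
    ext x
    simp only [Subgroup.mem_comap, Subgroup.mem_subgroupOf, Subgroup.coe_inclusion, Subgroup.mem_inf]
    exact ⟨fun hx => ⟨x.2.1, hx⟩, fun hx => hx.2⟩
  have htop : φ.range = ⊤ := by
    refine Subgroup.eq_top_of_card_eq _ ?_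
    rw [← Subgroup.index_ker, hker, ← Subgroup.relIndex, hi, IsCyclic.card_mulAut, hC,
      Nat.totient_prime Nat.prime_three]
  obtain ⟨y, hy⟩ : MulEquiv.inv C ∈ φ.range := htop ▸ Subgroup.mem_top _
  exact ⟨y, y.2.1, fun c hc => congrArg Subtype.val (DFunLike.congr_fun hy (⟨c, hc⟩ : C))⟩

/-- No element of order three is inverted. -/
theorem hg_of_no_inverting (T : Sylow 3 G) (h : ∀ x ∈ (T : Subgroup G), x ≠ 1 →
    ∀ g ∈ normalizer (Cfsg.centerThompsonAOf (T : Subgroup G) : Set G), g * x * g⁻¹ ≠ x⁻¹) :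
    CfsgLib.FourFree.HG G := by
  haveI := Fact.mk Nat.prime_three
  set Z := Cfsg.centerThompsonAOf (T : Subgroup G) with hZ
  intro a x hx hax
  by_contra hx1
  have hxo : orderOf x = 3 := orderOf_eq_prime hx hx1
  by_cases hc : Cfsg.ControlsStrongFusion 3 Z
  · obtain ⟨T', hZT', hctrl⟩ := hc
    have hnorm : ∀ d : G, conjBy d Z ≤ (T' : Subgroup G) → d ∈ normalizer (Z : Set G) := by
      intro d hd
      obtain ⟨k, hk, hka⟩ := (hctrl (Z : Set G) hZT').2 d (by
        rintro _ ⟨z, hz, rfl⟩; exact hd (conj_mem_conjBy hz))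
      refine conjBy_eq_iff.1 (conjBy_eq_of_le (conjBy_le_iff.2 fun z hz => ?_))
      rw [hka z hz]
      exact (mem_normalizer_iff.1 hk z).1 hz
    obtain ⟨d, hd⟩ := MulAction.exists_smul_eq G T T'
    have hdT : conjBy d (T : Subgroup G) = T' := by rw [← hd]; rfl
    have hdZ := hnorm d (hdT ▸ Subgroup.map_mono (zj_le T))
    obtain ⟨c, hc⟩ := CfsgLib.Invol.exists_conj_le_sylow
      (IsPGroup.of_card (n := 1) (by rw [Nat.card_zpowers, hxo, pow_one]) : IsPGroup 3 (zpowers x)) T'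
    set v := c * x * c⁻¹ with hv
    have hvT : v ∈ (T' : Subgroup G) := hc x (mem_zpowers x)
    obtain ⟨k, hk, hka⟩ := (hctrl {v} (Set.singleton_subset_iff.2 hvT)).2 (c * a * c⁻¹) (by
      rintro _ ⟨b, rfl, rfl⟩
      show c * a * c⁻¹ * v * (c * a * c⁻¹)⁻¹ ∈ (T' : Subgroup G)
      rw [show c * a * c⁻¹ * v * (c * a * c⁻¹)⁻¹ = c * (a * x * a⁻¹) * c⁻¹ by rw [hv]; group, hax,
        show c * x⁻¹ * c⁻¹ = v⁻¹ by rw [hv]; group]
      exact inv_mem hvT)
    have hk' := hka v rfl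
    rw [show c * a * c⁻¹ * v * (c * a * c⁻¹)⁻¹ = c * (a * x * a⁻¹) * c⁻¹ by rw [hv]; group, hax] at hk'
    rw [← hdT] at hvT
    obtain ⟨u, hu, hud⟩ := hvT
    replace hud : d * u * d⁻¹ = v := hud
    refine h u hu (fun e => hx1 ?_) (d⁻¹ * k * d) (mul_mem (mul_mem (inv_mem hdZ) hk) hdZ) ?_
    · rw [e, mul_one, mul_inv_cancel, hv] at hud
      exact conj_eq_one_iff.1 hud.symm
    · rw [show d⁻¹ * k * d * u * (d⁻¹ * k * d)⁻¹ = d⁻¹ * (k * (d * u * d⁻¹) * k⁻¹) * d by group, hud, ← hk',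
        show u⁻¹ = d⁻¹ * (d * u * d⁻¹)⁻¹ * d by group, hud, hv]
      group
  · obtain ⟨-, C, hCZ, hCc, hCi⟩ := concl_of_fail (p := 3) (by norm_num) (Nat.card G) G T rfl hc
    obtain ⟨k, hk, hkc⟩ := exists_inverting_three _ C hCc (by simpa using hCi)
    obtain ⟨c, hcC, hc1⟩ := C.bot_or_exists_ne_one.resolve_left fun e => by
      rw [e, Subgroup.card_bot] at hCc; norm_num at hCc
    exact h c (zj_le T (hCZ hcC)) hc1 k hk (hkc c hcC)

/-- With `HG` every nonabelian simple section is a Suzuki group or `PSL₂(3^odd)`. -/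
theorem composition_of_hg (hW : CfsgLib.Walter.Classified.{u}) (hM : MainThm.{u})
    (h : CfsgLib.FourFree.HG G) :
    Cfsg.IsCompositionKGroupWith Cfsg.IsSuzukiOrPSL2OddPowerThree G := by
  intro H _ N _ hs hc
  haveI := hs
  have hY : CfsgLib.FourFree.HG (H ⧸ N) :=
    (h.subgroup H).quotient (QuotientGroup.mk' N) (QuotientGroup.mk'_surjective N)
  have hfree : ¬ Cfsg.Involves (Equiv.Perm (Fin 4)) (H ⧸ N) := by
    rintro ⟨K, R, hR, ⟨e⟩⟩
    have h4 := (hY.subgroup K).quotient _ (QuotientGroup.mk'_surjective (R.subgroupOf K))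
    have h1 := h4 (e.symm (Equiv.swap 1 2)) (e.symm (Equiv.swap 0 1 * Equiv.swap 1 2))
      (by rw [← map_pow, show (Equiv.swap (0 : Fin 4) 1 * Equiv.swap 1 2) ^ 3 = 1 by decide +kernel, map_one])
      (by rw [← map_inv, ← map_inv, ← map_mul, ← map_mul]; congr 1; decide +kernel)
    rw [← map_one e.symm] at h1
    exact absurd (e.symm.injective h1) (by decide +kernel)
  exact (Cfsg.Agent.S2755.result (isGoldschmidt_of_sfour_free hW hM (H ⧸ N) hc hfree)).2.1
    (CfsgLib.ReeType.no_three_iff.2 hY)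

end CfsgLib.Gold
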