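import Cfsg.Agent.Lib.Walter.Rank.Setup
import Cfsg.Agent.Lib.Bender.Suzuki.Consumers
import Cfsg.Prelude.Def_TwoFusion

/-!
# Strongly closed abelian `2`-subgroups of simple groups: the interfaces

`Form` is the list for the simple sections. `Setting` is a counterexample reduced to an elementary abelian
minimal strongly closed `A` whose involution centralizers generate `G`.

The obligations (route: docs/S1169-route-lead.md, docs/S1169-closed-helper9.md):
* `CaseTwoStmt` : `|A| = 4`, `A ≤ Φ(S)` is impossible;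
* `CasePhiStmt` : `|A| ≥ 8`, `A ≤ Φ(C_S(A))` is impossible;
* `CaseSplitStmt` : `|A| ≥ 8`, `C_S(A)` elementary and proper in `S` is impossible;
* `ReduceStmt` : every setting is in one of the three cases.
-/

set_option autoImplicit false

namespace CfsgLib.Gold

open Subgroup

universe u

/-- The three rank one families in characteristic two, up to isomorphism. -/
def IsoFamilies (X : Type u) [Group X] : Prop :=
  (∃ (F : Type) (_ : Field F) (_ : Fintype F), (∃ n : ℕ, 2 ≤ n ∧ Fintype.card F = 2 ^ n) ∧
      Nonempty (X ≃* Matrix.ProjectiveSpecialLinearGroup (Fin 2) F)) ∨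
    Cfsg.Lie.IsoSuzuki X ∨
    (∃ (F : Type) (_ : Field F) (_ : Fintype F) (n : ℕ), 2 ≤ n ∧ Fintype.card F = (2 ^ n) ^ 2 ∧
      Nonempty (X ≃* Cfsg.PSU 3 F (2 ^ n)))

/-- The groups with a strongly embedded subgroup, or with abelian Sylow `2`-subgroups. -/
def Form (X : Type u) [Group X] : Prop :=
  CfsgLib.Walter.CentForm X ∨ IsoFamilies X

/-- The induction hypothesis: smaller simple groups with a strongly closed abelian subgroup are in the list. -/
def SectionsOK (G : Type u) [Group G] : Prop :=
  ∀ (X : Type u) [Group X] [Finite X], IsSimpleGroup X → ¬ IsMulCommutative X →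
    Nat.card X < Nat.card G → ∀ (P : Sylow 2 X) (B : Subgroup X), B ≠ ⊥ → IsMulCommutative B →
      Cfsg.IsStronglyClosed B (P : Subgroup X) → Form X

/-- A counterexample, reduced. -/
structure Setting {G : Type u} [Group G] (S : Sylow 2 G) (A : Subgroup G) : Prop where
  simple : IsSimpleGroup G
  noncomm : ¬ IsMulCommutative G
  sections : SectionsOK G
  ne_bot : A ≠ ⊥
  comm : IsMulCommutative A
  sq : ∀ a ∈ A, a * a = 1
  closed : Cfsg.IsStronglyClosed A (S : Subgroup G)
  minimal : ∀ B : Subgroup G, B ≤ A → B ≠ ⊥ → Cfsg.IsStronglyClosed B (S : Subgroup G) → B = A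
  gen : (⨆ t : {t : G // t ∈ A ∧ orderOf t = 2}, centralizer ({(t : G)} : Set G)) = ⊤
  sylow_noncomm : ¬ IsMulCommutative (S : Subgroup G)

variable {G : Type u} [Group G]

/-- The centralizer of `A` in `S`. -/
def centA (S : Subgroup G) (A : Subgroup G) : Subgroup G := S ⊓ centralizer (A : Set G)

/-- The subgroup generated by the squares; the Frattini subgroup for a `2`-group. -/
def sqGen (U : Subgroup G) : Subgroup G := Subgroup.closure {x | ∃ u ∈ U, u * u = x}

/-- The pairs `(R, V)` of the components met by `A` (the components not centralized by `A`), at the involutions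
of `A`. -/
def IsPairAt (A : Subgroup G) (y : G) (R V : Subgroup G) : Prop :=
  CfsgLib.Walter.Rank.IsPairAt A y R V ∧ V ≠ ⊥ ∧ R ≠ A

/-- A pair of `A`. -/
def IsPair (A : Subgroup G) (R V : Subgroup G) : Prop := ∃ y : G, IsPairAt A y R V

/-- Rank two. -/
def CaseTwoStmt : Prop :=
  ∀ (G : Type u) [Group G] [Finite G] (S : Sylow 2 G) (A : Subgroup G), Setting S A → Nat.card A = 4 →
    (∀ s ∈ (S : Subgroup G), ∀ a ∈ A, Commute s a) → A ≤ sqGen (S : Subgroup G) → False

/-- Rank at least three, `A` in the Frattini subgroup of its centralizer. -/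
def CasePhiStmt : Prop :=
  ∀ (G : Type u) [Group G] [Finite G] (S : Sylow 2 G) (A : Subgroup G), Setting S A → 8 ≤ Nat.card A →
    A ≤ sqGen (centA (S : Subgroup G) A) → False

/-- Rank at least three, the centralizer elementary abelian and proper in `S`. -/
def CaseSplitStmt : Prop :=
  ∀ (G : Type u) [Group G] [Finite G] (S : Sylow 2 G) (A : Subgroup G), Setting S A → 8 ≤ Nat.card A →
    (∀ x ∈ centA (S : Subgroup G) A, x * x = 1) → (∃ s ∈ (S : Subgroup G), ∃ a ∈ A, ¬ Commute s a) → False

/-- The reduction to the three cases. -/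
def ReduceStmt : Prop :=
  ∀ (G : Type u) [Group G] [Finite G] (S : Sylow 2 G) (A : Subgroup G), Setting S A →
    (Nat.card A = 4 ∧ (∀ s ∈ (S : Subgroup G), ∀ a ∈ A, Commute s a) ∧ A ≤ sqGen (S : Subgroup G)) ∨
    (8 ≤ Nat.card A ∧ A ≤ sqGen (centA (S : Subgroup G) A)) ∨
    (8 ≤ Nat.card A ∧ (∀ x ∈ centA (S : Subgroup G) A, x * x = 1) ∧
      ∃ s ∈ (S : Subgroup G), ∃ a ∈ A, ¬ Commute s a)

end CfsgLib.Gold
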