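import Cfsg.Agent.Lib.Goldschmidt.Split
import Mathlib.GroupTheory.Perm.Sign

/-!
# The reduction to the three cases

In rank two `S` centralizes `A`: otherwise the sign of the action of `N(A)` on `A` would see `S`.
-/

set_option autoImplicit false
set_option linter.style.haveILetI false

namespace CfsgLib.Gold

open Subgroup

universe u

variable {G : Type u} [Group G] [Finite G] {S : Sylow 2 G} {A : Subgroup G}

/-- In rank two `S` centralizes `A`. -/
theorem Setting.commute_of_card_four (h : Setting S A) (h4 : Nat.card A = 4) :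
    ∀ s ∈ (S : Subgroup G), ∀ a ∈ A, Commute s a := by
  classical
  haveI : Fintype A := Fintype.ofFinite A
  intro s hs
  by_contra! hmv
  obtain ⟨a, ha, hsa⟩ := hmv
  obtain ⟨z, hz, hz1, hzc⟩ := h.exists_central
  have ha1 : a ≠ 1 := fun e => hsa (e ▸ Commute.one_right s)
  have haz : a ≠ z := fun e => hsa (e ▸ hzc s hs)
  set a' : A := ⟨a, ha⟩
  set z' : A := ⟨z, hz⟩
  have hall : ∀ x : A, x = 1 ∨ x = z' ∨ x = a' ∨ x = a' * z' := by
    intro x
    by_contra! hx
    have hcard : ({1, z', a', a' * z', x} : Finset A).card ≤ 4 := by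
      rw [← h4, Nat.card_eq_fintype_card]
      exact Finset.card_le_univ _
    have e1 : (1 : A) ≠ z' := fun e => hz1 (congrArg Subtype.val e).symm
    have e2 : (1 : A) ≠ a' := fun e => ha1 (congrArg Subtype.val e).symm
    have e3 : (1 : A) ≠ a' * z' := fun e => haz (by
      have h1 : a * z = 1 := (congrArg Subtype.val e).symm
      rw [eq_inv_of_mul_eq_one_left h1, inv_eq_of_mul_eq_one_right (h.sq z hz)])
    have e4 : z' ≠ a' := fun e => haz (congrArg Subtype.val e).symm
    have e5 : z' ≠ a' * z' := fun e => ha1 (mul_eq_right.1 (congrArg Subtype.val e).symm)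
    have e6 : a' ≠ a' * z' := fun e => hz1 (mul_eq_left.1 (congrArg Subtype.val e).symm)
    simp [Finset.card_insert_of_notMem, e1, e2, e3, e4, e5, e6, hx.1.symm, hx.2.1.symm, hx.2.2.1.symm,
      hx.2.2.2.symm] at hcard
  let χ : (normalizer (A : Set G) : Subgroup G) →* ℤˣ :=
    Equiv.Perm.sign.comp ((MulAut.toPerm A).comp (normalizerMonoidHom A))
  refine h.false_of_hom Int.units_sq χ hs ?_
  set σ := MulAut.toPerm A (normalizerMonoidHom A ⟨s, h.sylow_le_normalizer hs⟩)
  have hσ : ∀ x : A, ((σ x : A) : G) = s * x * s⁻¹ := fun x => rfl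
  have hσz : σ z' = z' := Subtype.ext (by rw [hσ]; exact mul_inv_eq_iff_eq_mul.2 (hzc s hs).eq)
  have hσ1 : σ 1 = 1 := Subtype.ext (by rw [hσ]; simp)
  have hσa : σ a' = a' * z' := by
    rcases hall (σ a') with e | e | e | e
    · exact absurd (congrArg Subtype.val (σ.injective (e.trans hσ1.symm))) ha1
    · exact absurd (congrArg Subtype.val (σ.injective (e.trans hσz.symm))) haz
    · exact absurd (mul_inv_eq_iff_eq_mul.1 ((hσ a').symm.trans (congrArg Subtype.val e))) hsa
    · exact e
  have hswap : σ = Equiv.swap a' (a' * z') := by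
    refine Equiv.ext fun x => ?_
    rcases hall x with rfl | rfl | rfl | rfl
    · rw [hσ1, Equiv.swap_apply_of_ne_of_ne]
      · exact fun e => ha1 (congrArg Subtype.val e).symm
      · intro e
        exact haz (by
          have h1 : a * z = 1 := (congrArg Subtype.val e).symm
          rw [eq_inv_of_mul_eq_one_left h1, inv_eq_of_mul_eq_one_right (h.sq z hz)])
    · rw [hσz, Equiv.swap_apply_of_ne_of_ne]
      · exact fun e => haz (congrArg Subtype.val e).symm
      · exact fun e => ha1 (mul_eq_right.1 (congrArg Subtype.val e).symm)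
    · rw [hσa, Equiv.swap_apply_left]
    · rw [Equiv.swap_apply_right]
      refine Subtype.ext ?_
      have h1 : s * a * s⁻¹ = a * z := (hσ a').symm.trans (congrArg Subtype.val hσa)
      have h2 : s * z * s⁻¹ = z := mul_inv_eq_iff_eq_mul.2 (hzc s hs).eq
      rw [hσ]
      show s * (a * z) * s⁻¹ = a
      rw [show s * (a * z) * s⁻¹ = s * a * s⁻¹ * (s * z * s⁻¹) by group, h1, h2, mul_assoc, h.sq z hz, mul_one]
  show Equiv.Perm.sign σ ≠ 1
  rw [hswap, Equiv.Perm.sign_swap]
  · decide
  · exact fun e => hz1 (mul_eq_left.1 (congrArg Subtype.val e).symm)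

/-- The reduction. -/
theorem reduceStmt : ReduceStmt.{u} := by
  intro G _ _ S A h
  haveI := Fact.mk Nat.prime_two
  obtain ⟨k, hk⟩ := IsPGroup.iff_card.1 (S.2.to_le h.le_sylow)
  have h4 := h.four_le
  have hsize : Nat.card A = 4 ∨ 8 ≤ Nat.card A := by
    rcases Nat.lt_or_ge k 3 with hk3 | hk3
    · left
      interval_cases k <;> simp_all
    · right
      rw [hk]; exact (Nat.pow_le_pow_right two_pos hk3 : 2 ^ 3 ≤ 2 ^ k)
  rcases h.inter_squares_eq with hsp | hphi
  · have hsq := h.centA_sq hsp
    have hmv : ∃ s ∈ (S : Subgroup G), ∃ a ∈ A, ¬ Commute s a := by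
      by_contra! hc
      refine h.sylow_noncomm (isMulCommutative_iff.2 fun x y => Subtype.ext ?_)
      have hx : ∀ x ∈ (S : Subgroup G), x * x = 1 := fun x hx =>
        hsq x ⟨hx, mem_centralizer_iff.2 fun a ha => (hc x hx a ha).eq.symm⟩
      show (x : G) * y = y * x
      have h1 := hx _ (mul_mem x.2 y.2)
      rw [mul_eq_one_iff_eq_inv, mul_inv_rev, inv_eq_of_mul_eq_one_right (hx _ x.2),
        inv_eq_of_mul_eq_one_right (hx _ y.2)] at h1
      exact h1
    rcases hsize with e4 | e8
    · obtain ⟨s, hs, a, ha, hn⟩ := hmv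
      exact absurd (h.commute_of_card_four e4 s hs a ha) hn
    · exact Or.inr (Or.inr ⟨e8, hsq, hmv⟩)
  · rcases hsize with e4 | e8
    · have hc := h.commute_of_card_four e4
      refine Or.inl ⟨e4, hc, ?_⟩
      rwa [show centA (S : Subgroup G) A = (S : Subgroup G) from
        inf_eq_left.2 fun s hs => mem_centralizer_iff.2 fun a ha => (hc s hs a ha).eq.symm] at hphi
    · exact Or.inr (Or.inl ⟨e8, hphi⟩)

end CfsgLib.Gold
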