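import Cfsg.Agent.Lib.Goldschmidt.Main
import Cfsg.Agent.Lib.Goldschmidt.Reduce
import Cfsg.Agent.Lib.Goldschmidt.Comp.Main
import Cfsg.Agent.Lib.Goldschmidt.Phi.Main
import Cfsg.Agent.Lib.Goldschmidt.RankOne.Main
import Cfsg.Agent.Lib.Goldschmidt.Rank2.Closed
import Cfsg.Agent.Lib.Goldschmidt.Split.Main
import Cfsg.Agent.Lib.Walter.Main

/-!
# Strongly closed abelian `2`-subgroups: Goldschmidt's theorem
-/

set_option autoImplicit false

namespace CfsgLib.Gold

universe u

/-- Goldschmidt's theorem on strongly closed abelian `2`-subgroups of simple groups. -/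
theorem main : ∀ (G : Type u) [Group G] [Finite G] [IsSimpleGroup G] (S : Sylow 2 G) (A : Subgroup G), A ≠ ⊥ →
    IsMulCommutative A → Cfsg.IsStronglyClosed A (S : Subgroup G) →
      IsMulCommutative (S : Subgroup G) ∨ ∃ H : Subgroup G, Cfsg.IsStronglyEmbedded H :=
  main_of CfsgLib.Walter.classified reduceStmt Rank2.caseTwoStmt
    (Phi.casePhiStmt_of compFactsStmt pairFactsStmt Phi.rankOneFacts)
    (Split.caseSplit_of compFactsStmt pairFactsStmt CfsgLib.Walter.classified)

end CfsgLib.Gold
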