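import Cfsg.Agent.Lib.Goldschmidt.Defs
import Cfsg.Agent.Lib.Walter.Classify
import Cfsg.Agent.Lib.Bender.Suzuki.Classified
import Cfsg.Agent.S1174

/-!
# Strongly closed abelian `2`-subgroups: the induction, given the three cases
-/

set_option autoImplicit false
set_option linter.style.haveILetI false

namespace CfsgLib.Gold

open Subgroup

universe u

variable {G : Type u} [Group G]

/-- The elements of order at most two of a commutative strongly closed subgroup form such a subgroup. -/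
def omega (A : Subgroup G) (hA : ∀ a ∈ A, ∀ b ∈ A, a * b = b * a) : Subgroup G where
  carrier := {x | x ∈ A ∧ x * x = 1}
  one_mem' := ⟨one_mem _, one_mul 1⟩
  mul_mem' := by
    rintro a b ⟨ha, ha2⟩ ⟨hb, hb2⟩
    refine ⟨mul_mem ha hb, ?_⟩
    rw [show a * b * (a * b) = a * (b * a) * b by group, hA b hb a ha,
      show a * (a * b) * b = a * a * (b * b) by group, ha2, hb2, one_mul]
  inv_mem' := by
    rintro a ⟨ha, ha2⟩
    exact ⟨inv_mem ha, by rw [← mul_inv_rev, ha2, inv_one]⟩

/-- Goldschmidt's theorem on strongly closed abelian subgroups, given the classification of the simple groups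
with abelian Sylow `2`-subgroups and the three cases. -/
theorem main_of (hW : CfsgLib.Walter.Classified.{u}) (hR : ReduceStmt.{u}) (h2 : CaseTwoStmt.{u})
    (hP : CasePhiStmt.{u}) (hS : CaseSplitStmt.{u}) :
    ∀ (G : Type u) [Group G] [Finite G] [IsSimpleGroup G] (S : Sylow 2 G) (A : Subgroup G), A ≠ ⊥ →
      IsMulCommutative A → Cfsg.IsStronglyClosed A (S : Subgroup G) →
        IsMulCommutative (S : Subgroup G) ∨ ∃ H : Subgroup G, Cfsg.IsStronglyEmbedded H := by
  haveI : Fact (Nat.Prime 2) := ⟨Nat.prime_two⟩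
  suffices key : ∀ n : ℕ, ∀ (G : Type u) [Group G] [Finite G] [IsSimpleGroup G] (S : Sylow 2 G)
      (A : Subgroup G), Nat.card G = n → A ≠ ⊥ → IsMulCommutative A →
      Cfsg.IsStronglyClosed A (S : Subgroup G) →
        IsMulCommutative (S : Subgroup G) ∨ ∃ H : Subgroup G, Cfsg.IsStronglyEmbedded H from
    fun G _ _ _ S A => key _ G S A rfl
  intro n
  induction n using Nat.strongRecOn with
  | _ n ih =>
  intro G _ _ _ S A hn hne hcomm hsc
  classical
  by_cases hab : IsMulCommutative (S : Subgroup G)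
  · exact Or.inl hab
  by_cases hse : ∃ H : Subgroup G, Cfsg.IsStronglyEmbedded H
  · exact Or.inr hse
  exfalso
  have hnc : ¬ IsMulCommutative G := fun h => hab (isMulCommutative_iff.2 fun a b =>
    Subtype.ext (isMulCommutative_iff.1 h (a : G) (b : G)))
  have hsec : SectionsOK G := by
    intro X _ _ hXs hXc hlt P B hB hBc hBsc
    haveI := hXs
    rcases ih _ (hn ▸ hlt) X P B rfl hB hBc hBsc with h | ⟨H, hH⟩
    · refine Or.inl (hW X hXs hXc fun Q a b => ?_)
      let e := Sylow.equiv Q P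
      exact e.injective (by rw [map_mul, map_mul]; exact isMulCommutative_iff.1 h (e a) (e b))
    · exact Or.inr (CfsgLib.Bender.Suzuki.isoFamilies_of_se CfsgLib.Bender.Suzuki.classified hH)
  -- elementary strongly closed subgroups
  let P : Subgroup G → Prop := fun B => B ≠ ⊥ ∧ IsMulCommutative B ∧ (∀ b ∈ B, b * b = 1) ∧
    Cfsg.IsStronglyClosed B (S : Subgroup G)
  have hcA : ∀ a ∈ A, ∀ b ∈ A, a * b = b * a := fun a ha b hb =>
    congrArg Subtype.val (isMulCommutative_iff.1 hcomm ⟨a, ha⟩ ⟨b, hb⟩)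
  have hP0 : P (omega A hcA) := by
    refine ⟨fun h => hne ((Subgroup.eq_bot_iff_forall A).2 fun a ha => ?_), ?_, fun b hb => hb.2,
      fun x hx => hsc.1 hx.1, fun x hx g hg => ⟨hsc.2 x hx.1 g hg, ?_⟩⟩
    · obtain ⟨k, hk⟩ := IsPGroup.iff_orderOf.1 S.2 ⟨a, hsc.1 ha⟩
      rw [Subgroup.orderOf_mk] at hk
      by_contra ha1
      rcases Nat.eq_zero_or_pos k with rfl | hk0
      · exact ha1 (orderOf_eq_one_iff.1 (by simpa using hk))
      have h1 : a ^ 2 ^ (k - 1) ∈ omega A hcA := ⟨pow_mem ha _, by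
        rw [← pow_add, ← two_mul, ← pow_succ', Nat.sub_add_cancel hk0, ← hk, pow_orderOf_eq_one]⟩
      rw [h, mem_bot] at h1
      have h3 := Nat.le_of_dvd (pow_pos two_pos _) (orderOf_dvd_of_pow_eq_one h1)
      rw [hk] at h3
      have := (Nat.pow_le_pow_iff_right (le_refl 2)).1 h3
      omega
    · exact isMulCommutative_iff.2 fun a b => Subtype.ext (hcA a a.2.1 b b.2.1)
    · rw [show g * x * g⁻¹ * (g * x * g⁻¹) = g * (x * x) * g⁻¹ by group, hx.2, mul_one, mul_inv_cancel]
  obtain ⟨B, hB, hBmin⟩ := Set.Finite.exists_minimal (Set.toFinite {B : Subgroup G | P B}) ⟨_, hP0⟩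
  have hgen : (⨆ t : {t : G // t ∈ B ∧ orderOf t = 2}, centralizer ({(t : G)} : Set G)) = ⊤ := by
    by_contra h
    exact hse (Cfsg.Agent.S1174.result S B hB.1 hB.2.2.2 h)
  have hset : Setting S B := ⟨inferInstance, hnc, hsec, hB.1, hB.2.1, hB.2.2.1, hB.2.2.2,
    fun C hCB hC hCsc => le_antisymm hCB (hBmin ⟨hC, isMulCommutative_iff.2 fun a b => Subtype.ext
      (congrArg Subtype.val (isMulCommutative_iff.1 hB.2.1 ⟨a, hCB a.2⟩ ⟨b, hCB b.2⟩) :),
      fun c hc => hB.2.2.1 c (hCB hc), hCsc⟩ hCB), hgen, hab⟩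
  rcases hR G S B hset with ⟨h4, hc, hf⟩ | ⟨h8, hf⟩ | ⟨h8, hsq, hmv⟩
  · exact h2 G S B hset h4 hc hf
  · exact hP G S B hset h8 hf
  · exact hS G S B hset h8 hsq hmv

end CfsgLib.Gold
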