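import Cfsg.Agent.Lib.Walter.Consumers.ReeType
import Cfsg.Agent.Lib.Bender.Suzuki.Classified
import Cfsg.Agent.Lib.FourFree.K.ThompsonModule
import Cfsg.Agent.Lib.FourFree.K.Core
import Cfsg.Agent.Lib.FT.NoMinSimple
import Cfsg.Agent.Lib.Qd.SLTwo
import Cfsg.Agent.S2755
import Cfsg.Agent.S2796

/-!
# Simple groups without a section `S₄` are Goldschmidt groups, given Goldschmidt's theorem

A smallest such group has, by the strongly closed abelian subgroup of the `S₄`-free theory, abelian Sylow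
`2`-subgroups or a strongly embedded subgroup. The listed sections of the constrained sections come from the
induction: modulo `O₂` they have no section `S₃`.
-/

set_option autoImplicit false
set_option linter.style.haveILetI false

namespace CfsgLib.Gold

open Subgroup

universe u

/-- Goldschmidt's theorem on strongly closed abelian subgroups. -/
def MainThm : Prop :=
  ∀ (G : Type u) [Group G] [Finite G] [IsSimpleGroup G] (S : Sylow 2 G) (A : Subgroup G), A ≠ ⊥ →
    IsMulCommutative A → Cfsg.IsStronglyClosed A (S : Subgroup G) →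
      IsMulCommutative (S : Subgroup G) ∨ ∃ H : Subgroup G, Cfsg.IsStronglyEmbedded H

variable {X : Type u} [Group X] [Finite X] [IsSimpleGroup X]

theorem isGoldschmidt_of_centForm (hab : CfsgLib.Walter.AbTwo X) (hc : CfsgLib.Walter.CentForm X) :
    Cfsg.IsGoldschmidtGroup X := by
  rcases hc with ⟨F, i1, i2, ⟨n, hn, hF⟩ | ⟨h5, h8⟩, ⟨e⟩⟩ | hr
  · rcases Nat.lt_or_ge n 3 with h3 | h3
    · obtain rfl : n = 2 := by omega
      obtain ⟨e'⟩ := CfsgLib.Walter.Consumers.iso_psl_five (by rw [hF]; norm_num) e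
      haveI : Fact (Nat.Prime 5) := ⟨by norm_num⟩
      exact Or.inr (Or.inr (Or.inr (Or.inr (Or.inl
        ⟨ZMod 5, inferInstance, inferInstance, 5, ZMod.card 5, le_rfl, by norm_num, ⟨e'⟩⟩))))
    · exact Or.inr (Or.inl ⟨F, i1, i2, n, h3, hF, ⟨e⟩⟩)
  · exact Or.inr (Or.inr (Or.inr (Or.inr (Or.inl ⟨F, i1, i2, _, rfl, h5, h8, ⟨e⟩⟩))))
  · rcases CfsgLib.Walter.Consumers.reeType_cases hab hr with h | h
    · exact Or.inr (Or.inr (Or.inr (Or.inr (Or.inr h))))
    · exact Or.inl h

/-- A simple group with a strongly closed abelian `2`-subgroup is a Goldschmidt group. -/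
theorem isGoldschmidt_of_closed (hW : CfsgLib.Walter.Classified.{u}) (hM : MainThm.{u})
    (hnc : ¬ IsMulCommutative X) (S : Sylow 2 X) (A : Subgroup X) (hA : A ≠ ⊥) (hAc : IsMulCommutative A)
    (hsc : Cfsg.IsStronglyClosed A (S : Subgroup X)) : Cfsg.IsGoldschmidtGroup X := by
  rcases hM X S A hA hAc hsc with h | ⟨H, hH⟩
  · have hab := CfsgLib.Walter.abTwo_of_sylow S h
    exact isGoldschmidt_of_centForm hab (hW X inferInstance hnc hab)
  rcases CfsgLib.Bender.Suzuki.isoFamilies_of_se CfsgLib.Bender.Suzuki.classified hH with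
    ⟨F, i1, i2, ⟨n, hn, hF⟩, ⟨e⟩⟩ | h | ⟨F, i1, i2, n, hn, hF, ⟨e⟩⟩
  · rcases Nat.lt_or_ge n 3 with h3 | h3
    · obtain rfl : n = 2 := by omega
      obtain ⟨e'⟩ := CfsgLib.Walter.Consumers.iso_psl_five (by rw [hF]; norm_num) e
      haveI : Fact (Nat.Prime 5) := ⟨by norm_num⟩
      exact Or.inr (Or.inr (Or.inr (Or.inr (Or.inl
        ⟨ZMod 5, inferInstance, inferInstance, 5, ZMod.card 5, le_rfl, by norm_num, ⟨e'⟩⟩))))
    · exact Or.inr (Or.inl ⟨F, i1, i2, n, h3, hF, ⟨e⟩⟩)
  · exact Or.inr (Or.inr (Or.inl h))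
  · refine Or.inr (Or.inr (Or.inr (Or.inl ⟨F, i1, i2, n, hn, ?_, ⟨e⟩⟩)))
    rw [hF, ← pow_mul, mul_comm, pow_mul]
    norm_num

theorem sylow_ne_bot (hnc : ¬ IsMulCommutative X) (S : Sylow 2 X) : (S : Subgroup X) ≠ ⊥ := by
  intro h
  haveI : Fact (Nat.Prime 2) := ⟨Nat.prime_two⟩
  have h2 : ¬ 2 ∣ Nat.card X := fun hd => S.ne_bot_of_dvd_card hd h
  haveI := CfsgLib.FT.isSolvable_of_odd X (by rwa [← Nat.not_even_iff_odd, even_iff_two_dvd])
  exact hnc ⟨⟨fun a b => IsSimpleGroup.comm_iff_isSolvable.2 inferInstance a b⟩⟩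

/-- A central involution of a Sylow subgroup. -/
theorem exists_central_two {G : Type u} [Group G] [Finite G] (S : Sylow 2 G)
    [Nontrivial (S : Subgroup G)] :
    ∃ z, (z ∈ (S : Subgroup G) ⊓ centralizer ((S : Subgroup G) : Set G) ∧ z ^ 2 = 1) ∧ z ≠ 1 := by
  haveI : Fact (Nat.Prime 2) := ⟨Nat.prime_two⟩
  haveI := S.2.center_nontrivial
  obtain ⟨k, hk, hcard⟩ :=
    (IsPGroup.nontrivial_iff_card (S.2.to_subgroup (center (S : Subgroup G)))).1 inferInstance
  obtain ⟨⟨⟨z, hzS⟩, hzc⟩, hz2⟩ := exists_prime_orderOf_dvd_card' (G := center (S : Subgroup G)) 2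
    (hcard ▸ dvd_pow_self 2 hk.ne')
  have h2 : orderOf z = 2 := by
    rw [Subgroup.orderOf_mk, Subgroup.orderOf_mk] at hz2
    exact hz2
  refine ⟨z, ⟨⟨hzS, mem_centralizer_iff.2 fun s hs => ?_⟩, h2 ▸ pow_orderOf_eq_one z⟩, fun e => ?_⟩
  · exact congrArg Subtype.val (mem_center_iff.1 hzc ⟨s, hs⟩)
  · rw [e, orderOf_one] at h2
    norm_num at h2

/-- The induction. -/
theorem isGoldschmidt_of_sfour_free (hW : CfsgLib.Walter.Classified.{u}) (hM : MainThm.{u}) :
    ∀ (G : Type u) [Group G] [Finite G] [IsSimpleGroup G], ¬ IsMulCommutative G →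
      ¬ Cfsg.Involves (Equiv.Perm (Fin 4)) G → Cfsg.IsGoldschmidtGroup G := by
  haveI : Fact (Nat.Prime 2) := ⟨Nat.prime_two⟩
  suffices key : ∀ n : ℕ, ∀ (G : Type u) [Group G] [Finite G] [IsSimpleGroup G], Nat.card G = n →
      ¬ IsMulCommutative G → ¬ Cfsg.Involves (Equiv.Perm (Fin 4)) G → Cfsg.IsGoldschmidtGroup G from
    fun G _ _ _ => key _ G rfl
  intro n
  induction n using Nat.strong_induction_on with
  | _ n ih =>
  intro G _ _ _ hn hnc hfree
  classical
  have hsec : ∀ (K R : Subgroup G) [hR : (R.subgroupOf K).Normal],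
      centralizer (Cfsg.pCore 2 (K ⧸ R.subgroupOf K) : Set (K ⧸ R.subgroupOf K)) ≤
        Cfsg.pCore 2 (K ⧸ R.subgroupOf K) →
      Cfsg.IsCompositionKGroupWith Cfsg.IsSuzukiOrPSL2OddPowerThree (K ⧸ R.subgroupOf K) := by
    intro K R hR hcon H _ N _ hs hc
    haveI := hs
    set Q := K ⧸ R.subgroupOf K
    haveI := CfsgLib.Coprime.pCore_normal' (G := Q) 2
    have hfQ : ¬ Cfsg.Involves (Equiv.Perm (Fin 4)) Q := fun h => hfree
      (CfsgLib.Fusion.involves_of_injective K.subtype K.subtype_injective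
        (CfsgLib.Fusion.involves_of_surjective _ (QuotientGroup.mk'_surjective (R.subgroupOf K)) h))
    set f := (QuotientGroup.mk' (Cfsg.pCore 2 Q)).subgroupMap H with hf
    have hfs : Function.Surjective f := MonoidHom.subgroupMap_surjective _ _
    have hker : f.ker ≤ N := by
      have h2 : IsPGroup 2 f.ker := by
        rintro ⟨⟨x, hxH⟩, hx⟩
        have hxO : x ∈ Cfsg.pCore 2 Q :=
          (QuotientGroup.eq_one_iff x).1 (congrArg Subtype.val (MonoidHom.mem_ker.1 hx))
        obtain ⟨k, hk⟩ := CfsgLib.Coprime.pCore_isPGroup 2 ⟨x, hxO⟩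
        refine ⟨k, Subtype.ext (Subtype.ext ?_)⟩
        have := congrArg Subtype.val hk
        simpa using this
      rcases ((inferInstance : f.ker.Normal).map (QuotientGroup.mk' N)
          (QuotientGroup.mk'_surjective N)).eq_bot_or_eq_top with h | h
      · intro x hx
        have h1 : QuotientGroup.mk' N x ∈ f.ker.map (QuotientGroup.mk' N) := mem_map_of_mem _ hx
        rw [h, mem_bot] at h1
        exact (QuotientGroup.eq_one_iff x).1 h1
      · exfalso
        have h3 : IsPGroup 2 (H ⧸ N) := (h ▸ h2.map _ : IsPGroup 2 (⊤ : Subgroup (H ⧸ N))).of_equiv topEquiv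
        haveI := h3.isNilpotent
        haveI : Group.IsSolvable (H ⧸ N) := inferInstance
        exact hc ⟨⟨fun a b => IsSimpleGroup.comm_iff_isSolvable.2 inferInstance a b⟩⟩
    let ψ : H.map (QuotientGroup.mk' (Cfsg.pCore 2 Q)) →* H ⧸ N :=
      f.liftOfSurjective hfs ⟨QuotientGroup.mk' N, by rw [QuotientGroup.ker_mk']; exact hker⟩
    have hψ : Function.Surjective ψ := fun y => by
      obtain ⟨x, rfl⟩ := QuotientGroup.mk'_surjective N y
      exact ⟨f x, MonoidHom.liftOfRightInverse_comp_apply _ _ _ _ x⟩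
    have hHG : CfsgLib.FourFree.HG (H ⧸ N) :=
      ((CfsgLib.FourFree.hg_quotient_pCore hfQ hcon).subgroup _).quotient ψ hψ
    have hlt : Nat.card (H ⧸ N) < Nat.card G := by
      have h1 : Nat.card (H ⧸ N) ≤ Nat.card (Q ⧸ Cfsg.pCore 2 Q) :=
        (Nat.card_le_card_of_surjective ψ hψ).trans (Subgroup.card_le_card_group _)
      have hO : Cfsg.pCore 2 Q ≠ ⊥ := by
        intro h0
        rw [h0] at hcon
        haveI : Subsingleton Q := by
          refine ⟨fun a b => ?_⟩
          have ha : ∀ a : Q, a = 1 := fun a => mem_bot.1 (hcon (mem_centralizer_iff.2 fun g hg => by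
            rw [mem_bot.1 hg, one_mul, mul_one]))
          rw [ha a, ha b]
        haveI : Subsingleton (H ⧸ N) := (QuotientGroup.mk'_surjective N).subsingleton
        exact hc ⟨⟨fun a b => Subsingleton.elim _ _⟩⟩
      have h2 : Nat.card (Q ⧸ Cfsg.pCore 2 Q) < Nat.card Q := by
        rw [Subgroup.card_eq_card_quotient_mul_card_subgroup (Cfsg.pCore 2 Q)]
        exact lt_mul_of_one_lt_right Nat.card_pos ((Subgroup.one_lt_card_iff_ne_bot _).2 hO)
      have h3 : Nat.card Q ≤ Nat.card G :=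
        (Nat.card_le_card_of_surjective _ (QuotientGroup.mk'_surjective (R.subgroupOf K))).trans
          (Subgroup.card_le_card_group K)
      omega
    have hfY : ¬ Cfsg.Involves (Equiv.Perm (Fin 4)) (H ⧸ N) := fun h => hfQ
      (CfsgLib.Fusion.involves_of_injective H.subtype H.subtype_injective
        (CfsgLib.Fusion.involves_of_surjective _ (QuotientGroup.mk'_surjective N) h))
    exact (Cfsg.Agent.S2755.result (ih _ (hn ▸ hlt) (H ⧸ N) rfl hc hfY)).2.1
      (CfsgLib.ReeType.no_three_iff.2 hHG)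
  obtain ⟨S⟩ : Nonempty (Sylow 2 G) := inferInstance
  set Nj := normalizer (Cfsg.thompsonSubgroupOf 2 (S : Subgroup G) : Set G) with hNj
  set A : Subgroup G := (normalClosure (((Cfsg.omegaOne 2 ((S : Subgroup G) ⊓
    centralizer ((S : Subgroup G) : Set G))).subgroupOf Nj : Subgroup Nj) : Set Nj)).map Nj.subtype with hA
  obtain ⟨-, hAe, hAsc, -⟩ := Cfsg.Agent.S2796.result hfree hsec S Nj hNj A hA
  refine isGoldschmidt_of_closed hW hM hnc S A ?_ hAe.1 hAsc
  intro hbot
  haveI : Nontrivial (S : Subgroup G) := (Subgroup.nontrivial_iff_ne_bot _).2 (sylow_ne_bot hnc S)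
  obtain ⟨z, hz, hz1⟩ := exists_central_two S
  have hzN : z ∈ Nj := le_normalizer.trans
    (CfsgLib.Fusion.normalizer_le_normalizer_thompsonSubgroupOf (S : Subgroup G)) hz.1.1
  have hzA : z ∈ A := mem_map_of_mem Nj.subtype
    (subset_normalClosure (mem_subgroupOf.2 (subset_closure hz) : (⟨z, hzN⟩ : Nj) ∈ _))
  rw [hbot, mem_bot] at hzA
  exact hz1 hzA

end CfsgLib.Gold
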