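import Cfsg.Agent.Lib.Goldschmidt.Defs
import Cfsg.Agent.Lib.Invol.SECriterion.FusionLayer
import Cfsg.Agent.Lib.Fusion.Sylow
import Cfsg.Agent.Lib.Invol.Basic
import Cfsg.Agent.Lib.Coprime.Core

/-!
# The setting: first consequences

* `exists_fusion` : `N(A)` controls fusion in `S`;
* `irreducible` : `N(A)` has no invariant subgroup of `A` other than `1`, `A`;
* `false_of_hom` : `N(A)` has no quotient of order two that sees `S`;
* `false_of_top`, `false_of_normalized` : a proper subgroup containing all `C(a)`, or a proper subgroup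
  normalized by all of them, is impossible;
* the odd core of `G` and the centre are trivial, `4 ≤ |A|`;
* `centA` is a Sylow subgroup of `C(A)`, and `N(A) = C(A) N(centA)`.
-/

set_option autoImplicit false
set_option linter.style.haveILetI false

namespace CfsgLib.Gold

open Subgroup
open scoped commutatorElement

universe u

variable {G : Type u} [Group G] [Finite G] {S : Sylow 2 G} {A : Subgroup G}

namespace Setting

theorem le_sylow (h : Setting S A) : A ≤ (S : Subgroup G) := h.closed.1

theorem commute_mem (h : Setting S A) {a b : G} (ha : a ∈ A) (hb : b ∈ A) : a * b = b * a :=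
  congrArg Subtype.val (isMulCommutative_iff.1 h.comm ⟨a, ha⟩ ⟨b, hb⟩)

theorem le_centralizer (h : Setting S A) : A ≤ centralizer (A : Set G) := fun _ ha =>
  mem_centralizer_iff.2 fun _ hb => h.commute_mem hb ha

theorem le_centA (h : Setting S A) : A ≤ centA (S : Subgroup G) A := le_inf h.le_sylow h.le_centralizer

theorem elementary (h : Setting S A) : Cfsg.IsElementaryAbelian 2 A :=
  ⟨h.comm, fun a ha => by rw [_root_.sq]; exact h.sq a ha⟩

theorem orderOf_eq (h : Setting S A) {a : G} (ha : a ∈ A) (ha1 : a ≠ 1) : orderOf a = 2 :=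
  haveI := Fact.mk Nat.prime_two
  orderOf_eq_prime (by rw [_root_.sq]; exact h.sq a ha) ha1

theorem sylow_le_normalizer (h : Setting S A) : (S : Subgroup G) ≤ normalizer (A : Set G) :=
  CfsgLib.SECrit.sylow_le_normalizer_of_stronglyClosed S h.closed

/-- `N(A)` controls fusion in `S`. -/
theorem exists_fusion (h : Setting S A) {X : Set G} (hX : X ⊆ (S : Subgroup G)) {g : G}
    (hg : ∀ x ∈ X, g * x * g⁻¹ ∈ (S : Subgroup G)) :
    ∃ n ∈ normalizer (A : Set G), ∀ x ∈ X, g * x * g⁻¹ = n * x * n⁻¹ :=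
  haveI := Fact.mk Nat.prime_two
  CfsgLib.SECrit.exists_normalizer_fusion S h.comm h.closed X hX g hg

theorem exists_fusion_one (h : Setting S A) {x g : G} (hx : x ∈ (S : Subgroup G))
    (hg : g * x * g⁻¹ ∈ (S : Subgroup G)) :
    ∃ n ∈ normalizer (A : Set G), g * x * g⁻¹ = n * x * n⁻¹ := by
  obtain ⟨n, hn, hne⟩ := h.exists_fusion (X := {x}) (Set.singleton_subset_iff.2 hx) (g := g)
    (fun y hy => by rw [Set.mem_singleton_iff.1 hy]; exact hg)
  exact ⟨n, hn, hne x rfl⟩

/-- A subgroup of `S` whose elements stay in it under conjugation by `N(A)`, inside `S`, is strongly closed. -/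
theorem closed_of_normalizer (h : Setting S A) {B : Subgroup G} (hB : B ≤ (S : Subgroup G))
    (hinv : ∀ n ∈ normalizer (A : Set G), ∀ x ∈ B, n * x * n⁻¹ ∈ (S : Subgroup G) → n * x * n⁻¹ ∈ B) :
    Cfsg.IsStronglyClosed B (S : Subgroup G) := by
  refine ⟨hB, fun x hx g hg => ?_⟩
  obtain ⟨n, hn, e⟩ := h.exists_fusion_one (hB hx) hg
  rw [e] at hg ⊢
  exact hinv n hn x hx hg

/-- `N(A)` is irreducible on `A`. -/
theorem irreducible (h : Setting S A) {B : Subgroup G} (hB : B ≤ A)
    (hinv : ∀ n ∈ normalizer (A : Set G), ∀ x ∈ B, n * x * n⁻¹ ∈ B) : B = ⊥ ∨ B = A := by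
  by_cases h0 : B = ⊥
  · exact Or.inl h0
  · exact Or.inr (h.minimal B hB h0
      (h.closed_of_normalizer (hB.trans h.le_sylow) fun n hn x hx _ => hinv n hn x hx))

theorem center_eq_bot (h : Setting S A) : center G = ⊥ := by
  haveI := h.simple
  rcases (inferInstance : (center G).Normal).eq_bot_or_eq_top with e | e
  · exact e
  · exact absurd (isMulCommutative_iff.2 fun a b => mem_center_iff.1 (e.ge (mem_top b)) a) h.noncomm

/-- A homomorphism from `N(A)` to a group of exponent two is trivial on `S`. -/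
theorem false_of_hom (h : Setting S A) {C : Type*} [CommGroup C] (hC : ∀ c : C, c ^ 2 = 1)
    (χ : (normalizer (A : Set G) : Subgroup G) →* C) {s : G} (hs : s ∈ (S : Subgroup G))
    (hne : χ ⟨s, h.sylow_le_normalizer hs⟩ ≠ 1) : False := by
  haveI := Fact.mk Nat.prime_two
  haveI := h.simple
  obtain ⟨ψ, hψ⟩ := CfsgLib.SECrit.exists_hom_eq_on_sylow S h.comm h.closed hC χ
  rw [← hψ s hs] at hne
  rcases (inferInstance : ψ.ker.Normal).eq_bot_or_eq_top with e | e
  · exact h.noncomm (isMulCommutative_iff.2 fun a b =>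
      (MonoidHom.ker_eq_bot_iff ψ).1 e (by rw [map_mul, map_mul, mul_comm]))
  · exact hne (MonoidHom.mem_ker.1 (e.ge (mem_top s)))

/-- No proper subgroup contains all the centralizers. -/
theorem eq_top_of_centralizers (h : Setting S A) {M : Subgroup G}
    (hM : ∀ a ∈ A, a ≠ 1 → centralizer ({a} : Set G) ≤ M) : M = ⊤ := by
  refine top_unique (h.gen ▸ iSup_le ?_)
  rintro ⟨t, htA, ht⟩
  exact hM t htA fun e => by rw [e, orderOf_one] at ht; norm_num at ht

/-- A proper subgroup normalized by all the centralizers is trivial. -/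
theorem eq_bot_of_normalized (h : Setting S A) {W : Subgroup G} (hW : W ≠ ⊤)
    (hM : ∀ a ∈ A, a ≠ 1 → centralizer ({a} : Set G) ≤ normalizer (W : Set G)) : W = ⊥ := by
  haveI := h.simple
  have hn : W.Normal := normalizer_eq_top_iff.1 (h.eq_top_of_centralizers hM)
  exact hn.eq_bot_or_eq_top.resolve_right hW

/-- Not all centralizers lie in `N(A)`. -/
theorem exists_not_le_normalizer (h : Setting S A) :
    ¬ ∀ a ∈ A, a ≠ 1 → centralizer ({a} : Set G) ≤ normalizer (A : Set G) := by
  intro hM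
  by_cases hA : A = ⊤
  · exact h.noncomm (isMulCommutative_iff.2 fun a b =>
      h.commute_mem (hA.ge (mem_top a)) (hA.ge (mem_top b)))
  · exact h.ne_bot (h.eq_bot_of_normalized hA hM)

theorem two_dvd_card (h : Setting S A) : 2 ∣ Nat.card G := by
  obtain ⟨a, ha, ha1⟩ := A.bot_or_exists_ne_one.resolve_left h.ne_bot
  exact h.orderOf_eq ha ha1 ▸ orderOf_dvd_natCard a

theorem core_eq_bot (h : Setting S A) : Cfsg.pPrimeCore 2 G = ⊥ := by
  haveI := Fact.mk Nat.prime_two
  haveI := h.simple
  rcases (inferInstance : (Cfsg.pPrimeCore 2 G).Normal).eq_bot_or_eq_top with e | e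
  · exact e
  · have h1 := CfsgLib.Coprime.pPrimeCore_coprime (G := G) Nat.prime_two
    rw [e, Subgroup.card_top] at h1
    exact absurd h.two_dvd_card ((Nat.prime_two.coprime_iff_not_dvd).1 h1.symm)

/-- The kill for the cores: an odd subgroup `W` normalized by `N(A)` and containing all cores is trivial when
`C(a) ≤ O(C a) N(A)` for all `a`, and then all centralizers lie in `N(A)`, which is impossible. -/
theorem false_of_cover (h : Setting S A) {W : Subgroup G} (hW : ¬ 2 ∣ Nat.card W)
    (hN : normalizer (A : Set G) ≤ normalizer (W : Set G))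
    (hO : ∀ a ∈ A, a ≠ 1 → Cfsg.centralizerPPrimeCore 2 a ≤ W)
    (hcov : ∀ a ∈ A, a ≠ 1 →
      centralizer ({a} : Set G) ≤ Cfsg.centralizerPPrimeCore 2 a ⊔ normalizer (A : Set G)) : False := by
  have hWt : W ≠ ⊤ := fun e => hW (by rw [e, Subgroup.card_top]; exact h.two_dvd_card)
  have h0 : W = ⊥ := h.eq_bot_of_normalized hWt fun a ha ha1 =>
    (hcov a ha ha1).trans (sup_le ((hO a ha ha1).trans le_normalizer) hN)
  refine h.exists_not_le_normalizer fun a ha ha1 => (hcov a ha ha1).trans (sup_le ?_ le_rfl)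
  exact (hO a ha ha1).trans (h0.le.trans bot_le)

theorem four_le (h : Setting S A) : 4 ≤ Nat.card A := by
  haveI := Fact.mk Nat.prime_two
  obtain ⟨k, hk⟩ := IsPGroup.iff_card.1 (S.2.to_le h.le_sylow)
  rcases Nat.lt_or_ge k 2 with hk2 | hk2
  · exfalso
    obtain ⟨a, ha, ha1⟩ := A.bot_or_exists_ne_one.resolve_left h.ne_bot
    have hAz : A = zpowers a := (Subgroup.eq_of_le_of_card_ge (zpowers_le.2 ha) (by
      rw [Nat.card_zpowers, h.orderOf_eq ha ha1, hk]
      exact (Nat.pow_le_pow_right two_pos (Nat.le_of_lt_succ hk2)).trans_eq (pow_one 2))).symm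
    have htop : centralizer ({a} : Set G) = ⊤ := h.eq_top_of_centralizers fun b hb hb1 => by
      rw [hAz] at hb
      have e : b = a := by
        obtain ⟨i, rfl⟩ := mem_zpowers_iff.1 hb
        rcases Int.even_or_odd i with ⟨j, rfl⟩ | ⟨j, rfl⟩
        · exact absurd (by rw [zpow_add, ← (Commute.refl a).mul_zpow, h.sq a ha, one_zpow]) hb1
        · rw [zpow_add, zpow_one, two_mul, zpow_add, ← (Commute.refl a).mul_zpow, h.sq a ha, one_zpow, one_mul]
      rw [e]
    have hz : a ∈ center G :=
      mem_center_iff.2 fun g => mem_centralizer_singleton_iff.1 (htop.ge (mem_top g))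
    rw [h.center_eq_bot, mem_bot] at hz
    exact ha1 hz
  · rw [hk]; exact Nat.pow_le_pow_right two_pos hk2

/-- `S` has a fixed point on every nontrivial subgroup of `A` it normalizes. -/
theorem exists_central (h : Setting S A) :
    ∃ z ∈ A, z ≠ 1 ∧ ∀ s ∈ (S : Subgroup G), Commute s z := by
  haveI := Fact.mk Nat.prime_two
  haveI : Group.IsNilpotent (S : Subgroup G) := S.2.isNilpotent
  haveI : (A.subgroupOf (S : Subgroup G)).Normal :=
    (normal_subgroupOf_iff_le_normalizer h.le_sylow).2 h.sylow_le_normalizer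
  have hne : A.subgroupOf (S : Subgroup G) ≠ ⊥ := by
    rw [Ne, subgroupOf_eq_bot, disjoint_iff, inf_of_le_left h.le_sylow]
    exact h.ne_bot
  obtain ⟨z, hz, hz1⟩ := (A.subgroupOf (S : Subgroup G) ⊓ center (S : Subgroup G)).bot_or_exists_ne_one.resolve_left
    (CfsgLib.Coprime.nilpotent_inf_center_ne_bot _ hne)
  exact ⟨z, mem_subgroupOf.1 hz.1, fun e => hz1 (Subtype.ext e), fun s hs =>
    congrArg Subtype.val (mem_center_iff.1 hz.2 ⟨s, hs⟩)⟩

theorem centA_le (S : Sylow 2 G) (A : Subgroup G) : centA (S : Subgroup G) A ≤ (S : Subgroup G) := inf_le_left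

theorem centralizer_conj {n c : G} (hn : n ∈ normalizer (A : Set G)) (hc : c ∈ centralizer (A : Set G)) :
    n * c * n⁻¹ ∈ centralizer (A : Set G) :=
  (mem_normalizer_iff.1 (CfsgLib.Coprime.normalizer_le_normalizer_centralizer A hn) c).1 hc

/-- `C_S(A)` is a Sylow subgroup of `C(A)`. -/
theorem exists_centA_sylow (h : Setting S A) :
    ∃ Q : Sylow 2 (centralizer (A : Set G)),
      (Q : Subgroup (centralizer (A : Set G))) =
        (centA (S : Subgroup G) A).subgroupOf (centralizer (A : Set G)) := by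
  haveI := Fact.mk Nat.prime_two
  set C := centralizer (A : Set G)
  set N := normalizer (A : Set G)
  have hCN : C ≤ N := CfsgLib.Coprime.centralizer_le_normalizer_self A
  have hp : IsPGroup 2 ((centA (S : Subgroup G) A).subgroupOf C) :=
    (S.2.to_le (centA_le S A)).comap_of_injective C.subtype C.subtype_injective
  obtain ⟨Q, hQ⟩ := hp.exists_le_sylow
  have hQp : IsPGroup 2 (((Q : Subgroup C).map C.subtype).subgroupOf N) :=
    (Q.2.map C.subtype).comap_of_injective N.subtype N.subtype_injective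
  obtain ⟨n, hn⟩ := CfsgLib.Invol.exists_conj_le_sylow hQp (S.subtype h.sylow_le_normalizer)
  refine ⟨Q, (Subgroup.eq_of_le_of_card_ge hQ ?_).symm⟩
  refine Nat.card_le_card_of_injective (fun q : (Q : Subgroup C) =>
    (⟨⟨(n : G) * (q : C) * (n : G)⁻¹, centralizer_conj n.2 (q : C).2⟩,
      mem_subgroupOf.2 ⟨hn ⟨(q : C), hCN (q : C).2⟩ (mem_subgroupOf.2 (mem_map_of_mem _ q.2)),
        centralizer_conj n.2 (q : C).2⟩⟩ : (centA (S : Subgroup G) A).subgroupOf C)) ?_
  intro p q e
  have e' := congrArg (fun x : (centA (S : Subgroup G) A).subgroupOf C => ((x : C) : G)) e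
  exact Subtype.ext (Subtype.ext (mul_left_cancel (mul_right_cancel e')))

/-- Frattini: `N(A) = C(A) (N(A) ∩ N(C_S(A)))`. -/
theorem exists_frattini (h : Setting S A) {n : G} (hn : n ∈ normalizer (A : Set G)) :
    ∃ c ∈ centralizer (A : Set G), ∃ m ∈ normalizer (A : Set G),
      m ∈ normalizer (centA (S : Subgroup G) A : Set G) ∧ n = c * m := by
  haveI := Fact.mk Nat.prime_two
  set C := centralizer (A : Set G)
  obtain ⟨Q, hQ⟩ := h.exists_centA_sylow
  have hp : IsPGroup 2 (((centA (S : Subgroup G) A).map (MulAut.conj n).toMonoidHom).subgroupOf C) :=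
    ((S.2.to_le (centA_le S A)).map _).comap_of_injective C.subtype C.subtype_injective
  obtain ⟨c, hc⟩ := CfsgLib.Invol.exists_conj_le_sylow hp Q
  refine ⟨(c : G)⁻¹, inv_mem c.2, (c : G) * n,
    mul_mem (CfsgLib.Coprime.centralizer_le_normalizer_self A c.2) hn,
    mem_normalizer_fintype fun x hx => ?_, by group⟩
  have h1 : n * x * n⁻¹ ∈ C := centralizer_conj hn hx.2
  have h2 := hc ⟨n * x * n⁻¹, h1⟩ (mem_subgroupOf.2 ⟨x, hx, rfl⟩)
  rw [← SetLike.mem_coe, ← Sylow.coe_coe, hQ] at h2
  have h3 : (c : G) * (n * x * n⁻¹) * (c : G)⁻¹ ∈ centA (S : Subgroup G) A := h2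
  rwa [show (c : G) * n * x * ((c : G) * n)⁻¹ = (c : G) * (n * x * n⁻¹) * (c : G)⁻¹ by group]

end Setting

end CfsgLib.Gold
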