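import Cfsg.Agent.Lib.Goldschmidt.Setup
import Cfsg.Agent.Lib.ProdFusion.Main
import Mathlib.GroupTheory.Transfer

/-!
# The centralizer of `A` when `A` meets the squares of its Sylow subgroup trivially

The subgroup `M` generated by the elements of odd order of `C(A)` meets `A` trivially (transfer into
`U / ⟨squares⟩`, `U = C_S(A)`), so `S ∩ M` is strongly closed and disjoint from `A`, hence trivial by product
fusion.  Then the squares of `U` form a strongly closed subgroup and are trivial too.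
-/

set_option autoImplicit false
set_option linter.style.haveILetI false

namespace CfsgLib.Gold

open Subgroup
open scoped commutatorElement

universe u

variable {G : Type u} [Group G] [Finite G] {S : Sylow 2 G} {A : Subgroup G}

theorem sqGen_le (U : Subgroup G) : sqGen U ≤ U := (closure_le _).2 fun _ ⟨u, hu, e⟩ => e ▸ mul_mem hu hu

theorem sq_mem_sqGen {U : Subgroup G} {u : G} (hu : u ∈ U) : u * u ∈ sqGen U :=
  subset_closure ⟨u, hu, rfl⟩

theorem sqGen_conj {U : Subgroup G} {n x : G} (hn : n ∈ normalizer (U : Set G)) (hx : x ∈ sqGen U) :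
    n * x * n⁻¹ ∈ sqGen U := by
  suffices h : sqGen U ≤ (sqGen U).comap (MulAut.conj n).toMonoidHom from h hx
  refine (closure_le _).2 ?_
  rintro _ ⟨u, hu, rfl⟩
  exact subset_closure ⟨n * u * n⁻¹, (mem_normalizer_iff.1 hn u).1 hu, by simp⟩

namespace Setting

/-- A strongly closed subgroup commuting with `A` and meeting it trivially is trivial. -/
theorem eq_bot_of_closed (h : Setting S A) {D : Subgroup G} (hD : Cfsg.IsStronglyClosed D (S : Subgroup G))
    (hc : ∀ d ∈ D, ∀ a ∈ A, d * a = a * d) (hdisj : D ⊓ A = ⊥) : D = ⊥ := by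
  haveI := h.simple
  have h1 := CfsgLib.ProdFusion.commutator_normalClosure_le S hD h.closed hc hdisj
  rw [h.core_eq_bot, le_bot_iff] at h1
  have hA : normalClosure (A : Set G) = ⊤ :=
    (normalClosure_normal (s := (A : Set G))).eq_bot_or_eq_top.resolve_left fun e =>
      h.ne_bot (le_bot_iff.1 (subset_normalClosure.trans e.le))
  rw [hA, commutator_eq_bot_iff_le_centralizer] at h1
  refine le_bot_iff.1 fun d hd => h.center_eq_bot ▸ mem_center_iff.2 fun g => ?_
  exact mem_centralizer_iff.1 (h1 (subset_normalClosure hd)) g (mem_top g)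

theorem inter_squares_eq (h : Setting S A) :
    A ⊓ sqGen (centA (S : Subgroup G) A) = ⊥ ∨ A ≤ sqGen (centA (S : Subgroup G) A) := by
  have key : ∀ n ∈ normalizer (A : Set G), ∀ x ∈ A ⊓ sqGen (centA (S : Subgroup G) A),
      n * x * n⁻¹ ∈ A ⊓ sqGen (centA (S : Subgroup G) A) := by
    intro n hn x hx
    obtain ⟨c, hc, m, hmA, hmU, rfl⟩ := h.exists_frattini hn
    have h1 : m * x * m⁻¹ ∈ A := (mem_normalizer_iff.1 hmA x).1 hx.1
    have e : c * m * x * (c * m)⁻¹ = m * x * m⁻¹ := by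
      rw [show c * m * x * (c * m)⁻¹ = c * (m * x * m⁻¹) * c⁻¹ by group,
        ← mem_centralizer_iff.1 hc _ h1, mul_inv_cancel_right]
    rw [e]
    exact ⟨h1, sqGen_conj hmU hx.2⟩
  rcases h.irreducible inf_le_left key with e | e
  · exact Or.inl e
  · exact Or.inr (e.symm.le.trans inf_le_right)

/-- `C(A)` modulo the elements of odd order is a `2`-group meeting `A` faithfully. -/
theorem oddPart_inf (h : Setting S A) (hsplit : A ⊓ sqGen (centA (S : Subgroup G) A) = ⊥) :
    ((closure {x : centralizer (A : Set G) | Odd (orderOf x)}).map (centralizer (A : Set G)).subtype) ⊓ A = ⊥ := by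
  classical
  haveI := Fact.mk Nat.prime_two
  set C := centralizer (A : Set G) with hC
  obtain ⟨Q, hQ⟩ := h.exists_centA_sylow
  set U : Subgroup C := (Q : Subgroup C)
  have hUG : ∀ u : U, ((u : C) : G) ∈ centA (S : Subgroup G) A := fun u => mem_subgroupOf.1 (hQ.le u.2)
  let Φ : Subgroup U := closure {x | ∃ u : U, u * u = x}
  have hΦG : ∀ x ∈ Φ, ((x : C) : G) ∈ sqGen (centA (S : Subgroup G) A) := by
    intro x hx
    suffices hle : Φ ≤ (sqGen (centA (S : Subgroup G) A)).comap (C.subtype.comp U.subtype) from hle hx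
    refine (closure_le _).2 ?_
    rintro _ ⟨u, rfl⟩
    exact sq_mem_sqGen (hUG u)
  have hsqΦ : ∀ u : U, u * u ∈ Φ := fun u => subset_closure ⟨u, rfl⟩
  haveI hΦn : Φ.Normal := ⟨fun x hx g => by
    suffices hle : Φ ≤ Φ.comap (MulAut.conj g).toMonoidHom from hle hx
    refine (closure_le _).2 ?_
    rintro _ ⟨u, rfl⟩
    exact subset_closure ⟨g * u * g⁻¹, by simp⟩⟩
  have hexp : ∀ q : U ⧸ Φ, q * q = 1 := by
    intro q
    obtain ⟨u, rfl⟩ := QuotientGroup.mk_surjective q
    rw [← QuotientGroup.mk_mul, QuotientGroup.eq_one_iff]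
    exact hsqΦ u
  letI : CommGroup (U ⧸ Φ) := { (inferInstance : Group (U ⧸ Φ)) with
    mul_comm := fun p q => by
      have h1 := hexp (p * q)
      rw [mul_eq_one_iff_eq_inv, mul_inv_rev, inv_eq_of_mul_eq_one_right (hexp p),
        inv_eq_of_mul_eq_one_right (hexp q)] at h1
      exact h1 }
  let φ : U →* U ⧸ Φ := QuotientGroup.mk' Φ
  let τ : C →* U ⧸ Φ := MonoidHom.transfer φ
  have hτodd : closure {x : C | Odd (orderOf x)} ≤ τ.ker := by
    refine (closure_le _).2 fun x hx => MonoidHom.mem_ker.2 ?_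
    have h2 : τ x ^ 2 = 1 := by rw [_root_.sq]; exact hexp _
    rw [← orderOf_eq_one_iff]
    have h3 : orderOf (τ x) ∣ Nat.gcd 2 (orderOf x) :=
      Nat.dvd_gcd (orderOf_dvd_of_pow_eq_one h2) (orderOf_map_dvd τ x)
    rw [(Nat.coprime_two_left.2 hx).gcd_eq_one] at h3
    exact Nat.dvd_one.1 h3
  refine eq_bot_iff.2 ?_
  rintro _ ⟨⟨m, hm, rfl⟩, hmA⟩
  refine mem_bot.2 ?_
  have hmC : ∀ g : C, g * m = m * g := fun g =>
    Subtype.ext (mem_centralizer_iff.1 g.2 _ hmA).symm
  have hmU : m ∈ U := hQ.symm.le (mem_subgroupOf.2 (h.le_centA hmA))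
  have key : ∀ (k : ℕ) (g₀ : C), g₀⁻¹ * m ^ k * g₀ ∈ U → g₀⁻¹ * m ^ k * g₀ = m ^ k := fun k g₀ _ => by
    rw [mul_assoc, ← ((show Commute g₀ m from hmC g₀).pow_right k).eq, inv_mul_cancel_left]
  have h1 : τ m = φ ⟨m ^ U.index, MonoidHom.transfer_eq_pow_aux m key⟩ := MonoidHom.transfer_eq_pow φ m key
  rw [MonoidHom.mem_ker.1 (hτodd hm)] at h1
  obtain ⟨j, hj⟩ : Odd U.index := by
    rw [← Nat.not_even_iff_odd, even_iff_two_dvd]
    exact Q.not_dvd_index
  have hsqm : (m : G) * m = 1 := h.sq _ hmA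
  have hmem : (⟨m ^ U.index, MonoidHom.transfer_eq_pow_aux m key⟩ : U) ∈ Φ :=
    (QuotientGroup.eq_one_iff _).1 h1.symm
  have hG' := hΦG _ hmem
  have hpow : ((m ^ U.index : C) : G) = (m : G) := by
    rw [hj, Subgroup.coe_pow, pow_succ, pow_mul, show (m : G) ^ 2 = 1 by rw [_root_.sq]; exact hsqm, one_pow,
      one_mul]
  rw [show (((⟨m ^ U.index, MonoidHom.transfer_eq_pow_aux m key⟩ : U) : C) : G) = (m : G) from hpow] at hG'
  have h4 : (m : G) ∈ A ⊓ sqGen (centA (S : Subgroup G) A) := ⟨hmA, hG'⟩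
  rw [hsplit, mem_bot] at h4
  exact h4

/-- If `A` meets the squares of `C_S(A)` trivially then `C_S(A)` is elementary abelian. -/
theorem centA_sq (h : Setting S A) (hsplit : A ⊓ sqGen (centA (S : Subgroup G) A) = ⊥) :
    ∀ x ∈ centA (S : Subgroup G) A, x * x = 1 := by
  classical
  haveI := Fact.mk Nat.prime_two
  set C := centralizer (A : Set G) with hC
  set U := centA (S : Subgroup G) A
  set M' : Subgroup C := closure {x : C | Odd (orderOf x)}
  set M := M'.map C.subtype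
  have hMn : ∀ n ∈ normalizer (A : Set G), ∀ x ∈ M, n * x * n⁻¹ ∈ M := by
    intro n hn
    suffices hle : M ≤ M.comap (MulAut.conj n).toMonoidHom from fun x hx => hle hx
    rw [map_le_iff_le_comap]
    refine (closure_le _).2 fun x hx => ?_
    refine ⟨⟨n * (x : G) * n⁻¹, centralizer_conj hn x.2⟩, subset_closure ?_, by simp⟩
    show Odd (orderOf _)
    rw [← Subgroup.orderOf_coe]
    show Odd (orderOf (n * (x : G) * n⁻¹))
    rw [show n * (x : G) * n⁻¹ = MulAut.conj n (x : G) from rfl, MulEquiv.orderOf_eq, Subgroup.orderOf_coe]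
    exact hx
  -- `S ∩ M` is trivial
  have hD : (S : Subgroup G) ⊓ M = ⊥ := by
    refine h.eq_bot_of_closed (h.closed_of_normalizer inf_le_left fun n hn x hx hxS => ⟨hxS, hMn n hn x hx.2⟩)
      (fun d hd a ha => (mem_centralizer_iff.1 (map_subtype_le _ hd.2) a ha).symm)
      (le_bot_iff.1 ((le_inf (inf_le_left.trans inf_le_right) inf_le_right).trans (h.oddPart_inf hsplit).le))
  -- `C(A) = M U`
  haveI hM'n : M'.Normal := ⟨fun x hx g => by
    suffices hle : M' ≤ M'.comap (MulAut.conj g).toMonoidHom from hle hx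
    refine (closure_le _).2 fun y hy => subset_closure ?_
    show Odd (orderOf (MulAut.conj g y))
    rw [MulEquiv.orderOf_eq]
    exact hy⟩
  obtain ⟨Q, hQ⟩ := h.exists_centA_sylow
  have hdec : M' ⊔ (Q : Subgroup C) = ⊤ := by
    have hp : IsPGroup 2 (C ⧸ M') := by
      intro q
      obtain ⟨x, rfl⟩ := QuotientGroup.mk_surjective q
      obtain ⟨k, m, hm, hx⟩ := Nat.exists_eq_two_pow_mul_odd (orderOf_pos x).ne'
      refine ⟨k, ?_⟩
      rw [← QuotientGroup.mk_pow, QuotientGroup.eq_one_iff]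
      refine subset_closure ?_
      show Odd (orderOf (x ^ 2 ^ k))
      rw [orderOf_pow_of_dvd (pow_ne_zero k two_ne_zero) (hx ▸ dvd_mul_right _ _), hx,
        Nat.mul_div_cancel_left _ (pow_pos two_pos k)]
      exact hm
    obtain ⟨e, he⟩ := hp.exists_card_eq
    have h3 : (M' ⊔ (Q : Subgroup C)).index ∣ 2 ^ e := he ▸ Subgroup.index_dvd_of_le le_sup_left
    obtain ⟨f, -, hf⟩ := (Nat.dvd_prime_pow Nat.prime_two).1 h3
    rcases Nat.eq_zero_or_pos f with hf0 | hf0
    · exact Subgroup.index_eq_one.1 (by rw [hf, hf0, pow_zero])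
    · exact absurd ((dvd_pow_self 2 hf0.ne').trans (hf ▸ Subgroup.index_dvd_of_le le_sup_right)) Q.not_dvd_index
  -- the squares are strongly closed
  have hclosed : Cfsg.IsStronglyClosed (sqGen U) (S : Subgroup G) := by
    refine h.closed_of_normalizer ((sqGen_le U).trans inf_le_left) fun n hn x hx hxS => ?_
    obtain ⟨c, hc, m, -, hmU, rfl⟩ := h.exists_frattini hn
    set y := m * x * m⁻¹ with hy
    have hyΦ : y ∈ sqGen U := sqGen_conj hmU hx
    have e : c * m * x * (c * m)⁻¹ = c * y * c⁻¹ := by rw [hy]; group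
    rw [e] at hxS ⊢
    obtain ⟨μ, hμ, u, hu, hμu⟩ : ∃ μ ∈ M', ∃ u ∈ (Q : Subgroup C), μ * u = ⟨c, hc⟩ := by
      have : (⟨c, hc⟩ : C) ∈ M' ⊔ (Q : Subgroup C) := hdec ▸ mem_top _
      obtain ⟨μ, hμ, u, hu, e'⟩ := mem_sup_of_normal_left.1 this
      exact ⟨μ, hμ, u, hu, e'⟩
    have huU : (u : G) ∈ U := mem_subgroupOf.1 (hQ ▸ hu)
    set y' := (u : G) * y * (u : G)⁻¹
    have hy' : y' ∈ sqGen U := sqGen_conj (le_normalizer huU) hyΦ
    have hyC : y' ∈ C := (inf_le_right : U ≤ C) (sqGen_le U hy')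
    have hμn : (μ : G) * (y' * (μ : G)⁻¹ * y'⁻¹) ∈ M :=
      ⟨μ * (⟨y', hyC⟩ * μ⁻¹ * ⟨y', hyC⟩⁻¹), mul_mem hμ (hM'n.conj_mem _ (inv_mem hμ) _), rfl⟩
    have ec : c * y * c⁻¹ = (μ : G) * (y' * (μ : G)⁻¹ * y'⁻¹) * y' := by
      rw [show c = (μ : G) * (u : G) from (congrArg Subtype.val hμu).symm]
      simp only [y']
      group
    have h0 : (μ : G) * (y' * (μ : G)⁻¹ * y'⁻¹) ∈ (S : Subgroup G) ⊓ M := by
      refine ⟨?_, hμn⟩
      have := mul_mem hxS (inv_mem ((inf_le_left : U ≤ S) (sqGen_le U hy')))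
      rwa [ec, mul_inv_cancel_right] at this
    rw [hD, mem_bot] at h0
    rwa [ec, h0, one_mul]
  have hbot := h.eq_bot_of_closed hclosed
    (fun d hd a ha => (mem_centralizer_iff.1 (sqGen_le U hd).2 a ha).symm) (by rw [inf_comm]; exact hsplit)
  intro x hx
  exact mem_bot.1 (hbot ▸ sq_mem_sqGen hx)

end Setting

end CfsgLib.Gold
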